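import Mathlib
set_option linter.all false

/-!
# A homomorphism from `SL₂(k)` by its Bruhat decomposition

`T : k → G` is additive, `ν : k → G` multiplicative on the non-zero elements, `m : G`, `c : k`;
`T s` corresponds to `[[1, s], [0, 1]]`, `ν r` to `diag(r, 1/r)` and `m` to `[[0, -c], [1/c, 0]]`.
-/

set_option autoImplicit false

namespace Cfsg.Agent.ONan.SL2Hom

open Matrix

variable {G k : Type*} [Group G] [Field k]

/-- The relations. -/
structure Rel (T ν : k → G) (m : G) (c : k) : Prop where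
  c_ne : c ≠ 0
  T_add : ∀ a b, T (a + b) = T a * T b
  ν_mul : ∀ r s, r ≠ 0 → s ≠ 0 → ν (r * s) = ν r * ν s
  ν_T : ∀ r s, r ≠ 0 → ν r * T s = T (r ^ 2 * s) * ν r
  m_ν : ∀ r, r ≠ 0 → m * ν r = ν r⁻¹ * m
  m_m : m * m = ν (-1)
  m_T_m : ∀ a, a ≠ 0 → m * T a * m = ν (c / a) * T (-a) * m * T (-(c ^ 2 / a))

variable {T ν : k → G} {m : G} {c : k}

theorem Rel.T_zero (R : Rel T ν m c) : T 0 = 1 := by
  have h := R.T_add 0 0
  rw [add_zero] at h
  exact (mul_eq_left.mp h.symm)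

theorem Rel.ν_one (R : Rel T ν m c) : ν 1 = 1 := by
  have h := R.ν_mul 1 1 one_ne_zero one_ne_zero
  rw [one_mul] at h
  exact (mul_eq_left.mp h.symm)

open Classical in
/-- the homomorphism, given on matrices in the Bruhat normal form -/
noncomputable def Phi (T ν : k → G) (m : G) (c : k) (g : SpecialLinearGroup (Fin 2) k) : G :=
  if g.1 1 0 = 0 then ν (g.1 0 0) * T (g.1 0 1 / g.1 0 0)
  else T (g.1 0 0 / g.1 1 0) * ν (1 / (c * g.1 1 0)) * m * T (g.1 1 1 / g.1 1 0)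

theorem Phi_of_eq {g : SpecialLinearGroup (Fin 2) k} (h : g.1 1 0 = 0) :
    Phi T ν m c g = ν (g.1 0 0) * T (g.1 0 1 / g.1 0 0) := if_pos h

theorem Phi_of_ne {g : SpecialLinearGroup (Fin 2) k} (h : g.1 1 0 ≠ 0) :
    Phi T ν m c g = T (g.1 0 0 / g.1 1 0) * ν (1 / (c * g.1 1 0)) * m * T (g.1 1 1 / g.1 1 0) :=
  if_neg h

/-- matrix with given entries -/
def mk (a b x d : k) (h : a * d - b * x = 1) : SpecialLinearGroup (Fin 2) k :=
  ⟨!![a, b; x, d], by rw [Matrix.det_fin_two_of]; exact h⟩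

theorem mk_val (a b x d : k) (h : a * d - b * x = 1) : (mk a b x d h).1 = !![a, b; x, d] := rfl

@[simp] theorem mk_00 (a b x d : k) (h : a * d - b * x = 1) : (mk a b x d h).1 0 0 = a := rfl
@[simp] theorem mk_01 (a b x d : k) (h : a * d - b * x = 1) : (mk a b x d h).1 0 1 = b := rfl
@[simp] theorem mk_10 (a b x d : k) (h : a * d - b * x = 1) : (mk a b x d h).1 1 0 = x := rfl
@[simp] theorem mk_11 (a b x d : k) (h : a * d - b * x = 1) : (mk a b x d h).1 1 1 = d := rfl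

theorem det_eq (g : SpecialLinearGroup (Fin 2) k) :
    g.1 0 0 * g.1 1 1 - g.1 0 1 * g.1 1 0 = 1 := by
  have := g.2
  rwa [Matrix.det_fin_two] at this

theorem ext' {g g' : SpecialLinearGroup (Fin 2) k} (h00 : g.1 0 0 = g'.1 0 0)
    (h01 : g.1 0 1 = g'.1 0 1) (h10 : g.1 1 0 = g'.1 1 0) (h11 : g.1 1 1 = g'.1 1 1) : g = g' := by
  apply Subtype.ext
  ext i j
  fin_cases i <;> fin_cases j
  · exact h00
  · exact h01
  · exact h10
  · exact h11

theorem mul_apply' (g g' : SpecialLinearGroup (Fin 2) k) (i j : Fin 2) :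
    (g * g').1 i j = g.1 i 0 * g'.1 0 j + g.1 i 1 * g'.1 1 j := by
  show (g.1 * g'.1) i j = _
  rw [Matrix.mul_apply, Fin.sum_univ_two]

/-- the matrix of `T s` -/
def tM (s : k) : SpecialLinearGroup (Fin 2) k := mk 1 s 0 1 (by ring)

/-- the matrix of `ν r` -/
def nM (r : k) (hr : r ≠ 0) : SpecialLinearGroup (Fin 2) k :=
  mk r 0 0 r⁻¹ (by rw [mul_inv_cancel₀ hr]; ring)

/-- the matrix of `m` -/
def mM (c : k) (hc : c ≠ 0) : SpecialLinearGroup (Fin 2) k :=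
  mk 0 (-c) c⁻¹ 0 (by rw [neg_mul, mul_inv_cancel₀ hc]; ring)

@[simp] theorem tM_00 (s : k) : (tM s).1 0 0 = 1 := rfl
@[simp] theorem tM_01 (s : k) : (tM s).1 0 1 = s := rfl
@[simp] theorem tM_10 (s : k) : (tM s).1 1 0 = 0 := rfl
@[simp] theorem tM_11 (s : k) : (tM s).1 1 1 = 1 := rfl
@[simp] theorem nM_00 (r : k) (hr : r ≠ 0) : (nM r hr).1 0 0 = r := rfl
@[simp] theorem nM_01 (r : k) (hr : r ≠ 0) : (nM r hr).1 0 1 = 0 := rfl
@[simp] theorem nM_10 (r : k) (hr : r ≠ 0) : (nM r hr).1 1 0 = 0 := rfl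
@[simp] theorem nM_11 (r : k) (hr : r ≠ 0) : (nM r hr).1 1 1 = r⁻¹ := rfl
@[simp] theorem mM_00 (c : k) (hc : c ≠ 0) : (mM c hc).1 0 0 = 0 := rfl
@[simp] theorem mM_01 (c : k) (hc : c ≠ 0) : (mM c hc).1 0 1 = -c := rfl
@[simp] theorem mM_10 (c : k) (hc : c ≠ 0) : (mM c hc).1 1 0 = c⁻¹ := rfl
@[simp] theorem mM_11 (c : k) (hc : c ≠ 0) : (mM c hc).1 1 1 = 0 := rfl

theorem Rel.Phi_tM (R : Rel T ν m c) (s : k) : Phi T ν m c (tM s) = T s := by
  rw [Phi_of_eq rfl]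
  show ν 1 * T (s / 1) = T s
  rw [R.ν_one, div_one, one_mul]

theorem Rel.Phi_nM (R : Rel T ν m c) (r : k) (hr : r ≠ 0) : Phi T ν m c (nM r hr) = ν r := by
  rw [Phi_of_eq rfl]
  show ν r * T (0 / r) = ν r
  rw [zero_div, R.T_zero, mul_one]

theorem Rel.Phi_mM (R : Rel T ν m c) : Phi T ν m c (mM c R.c_ne) = m := by
  rw [Phi_of_ne (inv_ne_zero R.c_ne)]
  show T (0 / c⁻¹) * ν (1 / (c * c⁻¹)) * m * T (0 / c⁻¹) = m
  rw [zero_div, R.T_zero, mul_inv_cancel₀ R.c_ne, div_one, R.ν_one, one_mul, one_mul, mul_one]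

theorem Rel.Phi_tM_mul (R : Rel T ν m c) (s : k) (g : SpecialLinearGroup (Fin 2) k) :
    Phi T ν m c (tM s * g) = T s * Phi T ν m c g := by
  have hd := det_eq g
  have e00 : (tM s * g).1 0 0 = g.1 0 0 + s * g.1 1 0 := by
    rw [mul_apply']; show 1 * _ + s * _ = _; ring
  have e01 : (tM s * g).1 0 1 = g.1 0 1 + s * g.1 1 1 := by
    rw [mul_apply']; show 1 * _ + s * _ = _; ring
  have e10 : (tM s * g).1 1 0 = g.1 1 0 := by
    rw [mul_apply']; show 0 * _ + 1 * _ = _; ring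
  have e11 : (tM s * g).1 1 1 = g.1 1 1 := by
    rw [mul_apply']; show 0 * _ + 1 * _ = _; ring
  by_cases h : g.1 1 0 = 0
  · rw [Phi_of_eq (e10.trans h), Phi_of_eq h, e00, e01, h, mul_zero, add_zero, ← mul_assoc]
    rw [h, mul_zero, sub_zero] at hd
    have h0 : g.1 0 0 ≠ 0 := left_ne_zero_of_mul_eq_one hd
    have h1 : g.1 1 1 = (g.1 0 0)⁻¹ := eq_inv_of_mul_eq_one_right hd
    rw [add_div, R.T_add, h1, ← mul_assoc, ← add_zero (g.1 0 1 / g.1 0 0)]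
    have h2 : ν (g.1 0 0) * T (g.1 0 1 / g.1 0 0) * T (s * (g.1 0 0)⁻¹ / g.1 0 0) =
        ν (g.1 0 0) * T (s * (g.1 0 0)⁻¹ / g.1 0 0) * T (g.1 0 1 / g.1 0 0) := by
      rw [mul_assoc, ← R.T_add, add_comm, R.T_add, ← mul_assoc]
    rw [add_zero, h2, R.ν_T _ _ h0]
    congr 3
    field_simp
  · have h' : (tM s * g).1 1 0 ≠ 0 := by rwa [e10]
    rw [Phi_of_ne h', Phi_of_ne h, e00, e10, e11, add_div, mul_div_assoc, div_self h, mul_one,
      add_comm, R.T_add]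
    group

theorem Rel.Phi_nM_mul (R : Rel T ν m c) (u : k) (hu : u ≠ 0) (g : SpecialLinearGroup (Fin 2) k) :
    Phi T ν m c (nM u hu * g) = ν u * Phi T ν m c g := by
  have hd := det_eq g
  have e00 : (nM u hu * g).1 0 0 = u * g.1 0 0 := by
    rw [mul_apply']; show u * _ + 0 * _ = _; ring
  have e01 : (nM u hu * g).1 0 1 = u * g.1 0 1 := by
    rw [mul_apply']; show u * _ + 0 * _ = _; ring
  have e10 : (nM u hu * g).1 1 0 = u⁻¹ * g.1 1 0 := by
    rw [mul_apply']; show 0 * _ + u⁻¹ * _ = _; ring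
  have e11 : (nM u hu * g).1 1 1 = u⁻¹ * g.1 1 1 := by
    rw [mul_apply']; show 0 * _ + u⁻¹ * _ = _; ring
  by_cases h : g.1 1 0 = 0
  · rw [Phi_of_eq (e10.trans (by rw [h, mul_zero])), Phi_of_eq h, e00, e01]
    rw [h, mul_zero, sub_zero] at hd
    have h0 : g.1 0 0 ≠ 0 := left_ne_zero_of_mul_eq_one hd
    rw [R.ν_mul _ _ hu h0, mul_div_mul_left _ _ hu, mul_assoc]
  · have h' : (nM u hu * g).1 1 0 ≠ 0 := by rw [e10]; exact mul_ne_zero (inv_ne_zero hu) h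
    have hx : 1 / (c * g.1 1 0) ≠ 0 := one_div_ne_zero (mul_ne_zero R.c_ne h)
    rw [Phi_of_ne h', Phi_of_ne h, e00, e10, e11, mul_div_mul_left _ _ (inv_ne_zero hu)]
    have e1 : u * g.1 0 0 / (u⁻¹ * g.1 1 0) = u ^ 2 * (g.1 0 0 / g.1 1 0) := by field_simp
    have e2 : 1 / (c * (u⁻¹ * g.1 1 0)) = u * (1 / (c * g.1 1 0)) := by field_simp
    rw [e1, e2, R.ν_mul _ _ hu hx, ← mul_assoc, ← R.ν_T _ _ hu]
    group

theorem Rel.Phi_mM_mul (R : Rel T ν m c) (g : SpecialLinearGroup (Fin 2) k) :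
    Phi T ν m c (mM c R.c_ne * g) = m * Phi T ν m c g := by
  have hd := det_eq g
  have hc := R.c_ne
  have e00 : (mM c R.c_ne * g).1 0 0 = -c * g.1 1 0 := by
    rw [mul_apply']; show 0 * _ + -c * _ = _; ring
  have e01 : (mM c R.c_ne * g).1 0 1 = -c * g.1 1 1 := by
    rw [mul_apply']; show 0 * _ + -c * _ = _; ring
  have e10 : (mM c R.c_ne * g).1 1 0 = c⁻¹ * g.1 0 0 := by
    rw [mul_apply']; show c⁻¹ * _ + 0 * _ = _; ring
  have e11 : (mM c R.c_ne * g).1 1 1 = c⁻¹ * g.1 0 1 := by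
    rw [mul_apply']; show c⁻¹ * _ + 0 * _ = _; ring
  by_cases h : g.1 1 0 = 0
  · rw [Phi_of_eq h]
    rw [h, mul_zero, sub_zero] at hd
    have h0 : g.1 0 0 ≠ 0 := left_ne_zero_of_mul_eq_one hd
    have h' : (mM c R.c_ne * g).1 1 0 ≠ 0 := by rw [e10]; exact mul_ne_zero (inv_ne_zero hc) h0
    rw [Phi_of_ne h', e00, e10, e11, h, mul_zero, zero_div, R.T_zero, one_mul,
      mul_div_mul_left _ _ (inv_ne_zero hc), mul_inv_cancel_left₀ hc, ← mul_assoc, R.m_ν _ h0,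
      one_div]
  · have hr : 1 / (c * g.1 1 0) ≠ 0 := one_div_ne_zero (mul_ne_zero R.c_ne h)
    rw [Phi_of_ne h]
    by_cases h0 : g.1 0 0 = 0
    · have e : (mM c R.c_ne * g).1 1 0 = 0 := by rw [e10, h0, mul_zero]
      rw [Phi_of_eq e, e00, e01, h0, zero_div, R.T_zero, one_mul]
      have e3 : m * (ν (1 / (c * g.1 1 0)) * m * T (g.1 1 1 / g.1 1 0)) =
          ν (1 / (c * g.1 1 0))⁻¹ * ν (-1) * T (g.1 1 1 / g.1 1 0) := by
        rw [← R.m_m, ← mul_assoc, ← mul_assoc, R.m_ν _ hr, mul_assoc (ν _)]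
      have e4 : -c * g.1 1 0 = (1 / (c * g.1 1 0))⁻¹ * -1 := by
        rw [one_div, inv_inv]; ring
      rw [e3, ← R.ν_mul _ _ (inv_ne_zero hr) (neg_ne_zero.mpr one_ne_zero), ← e4,
        mul_div_mul_left _ _ (neg_ne_zero.mpr hc)]
    · have h' : (mM c R.c_ne * g).1 1 0 ≠ 0 := by rw [e10]; exact mul_ne_zero (inv_ne_zero hc) h0
      rw [Phi_of_ne h', e00, e10, e11, mul_div_mul_left _ _ (inv_ne_zero hc),
        mul_inv_cancel_left₀ hc]
      set x := g.1 0 0 / g.1 1 0 with hx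
      set r := 1 / (c * g.1 1 0) with hrd
      set y := g.1 1 1 / g.1 1 0 with hy
      have hx0 : x ≠ 0 := div_ne_zero h0 h
      have hri : r⁻¹ ≠ 0 := inv_ne_zero hr
      have hcx : c / x ≠ 0 := div_ne_zero hc hx0
      -- m * (T x * ν r * m * T y)
      have s1 : ν r * m = m * ν r⁻¹ := by rw [R.m_ν _ hri, inv_inv]
      have s2 : ν r⁻¹ * T y = T (r⁻¹ ^ 2 * y) * ν r⁻¹ := R.ν_T _ _ hri
      have s3 : m * (T x * ν r * m * T y) =
          ν (c / x) * T (-x) * m * (T (-(c ^ 2 / x)) * T (r⁻¹ ^ 2 * y)) * ν r⁻¹ := by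
        calc m * (T x * ν r * m * T y) = m * T x * (ν r * m) * T y := by group
          _ = m * T x * m * (ν r⁻¹ * T y) := by rw [s1]; group
          _ = _ := by rw [s2, R.m_T_m _ hx0]; group
      rw [s3, ← R.T_add]
      have s4 : ∀ z, T (r⁻¹ ^ 2 * z) * ν r⁻¹ = ν r⁻¹ * T z := fun z => (R.ν_T _ _ hri).symm
      have s5 : -(c ^ 2 / x) + r⁻¹ ^ 2 * y = r⁻¹ ^ 2 * (r ^ 2 * -(c ^ 2 / x) + y) := by
        rw [mul_add, ← mul_assoc, ← mul_pow, inv_mul_cancel₀ hr, one_pow, one_mul]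
      have s6 : ν (c / x) * T (-x) * m * T (-(c ^ 2 / x) + r⁻¹ ^ 2 * y) * ν r⁻¹ =
          ν (c / x) * T (-x) * ν r * m * T (r ^ 2 * -(c ^ 2 / x) + y) := by
        have s7 : m * ν r⁻¹ = ν r * m := s1.symm
        calc ν (c / x) * T (-x) * m * T (-(c ^ 2 / x) + r⁻¹ ^ 2 * y) * ν r⁻¹
            = ν (c / x) * T (-x) * m * (T (-(c ^ 2 / x) + r⁻¹ ^ 2 * y) * ν r⁻¹) := by group
          _ = ν (c / x) * T (-x) * (m * ν r⁻¹) * T (r ^ 2 * -(c ^ 2 / x) + y) := by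
              rw [s5, s4]; group
          _ = _ := by rw [s7]; group
      rw [s6, R.ν_T _ _ hcx]
      have s8 : T ((c / x) ^ 2 * -x) * ν (c / x) * ν r * m * T (r ^ 2 * -(c ^ 2 / x) + y) =
          T ((c / x) ^ 2 * -x) * ν (c / x * r) * m * T (r ^ 2 * -(c ^ 2 / x) + y) := by
        rw [R.ν_mul _ _ hcx hr]; group
      rw [s8]
      have t1 : -c * g.1 1 0 / (c⁻¹ * g.1 0 0) = (c / x) ^ 2 * -x := by
        rw [hx]; field_simp
      have t2 : 1 / g.1 0 0 = c / x * r := by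
        rw [hx, hrd]; field_simp
      have t3 : g.1 0 1 / g.1 0 0 = r ^ 2 * -(c ^ 2 / x) + y := by
        rw [hx, hrd, hy]
        field_simp
        linear_combination -hd
      rw [t1, t2, t3]

theorem decomp (hc : c ≠ 0) (g : SpecialLinearGroup (Fin 2) k) :
    (∃ (r : k) (hr : r ≠ 0) (x : k), g = nM r hr * tM x) ∨
    (∃ (r : k) (hr : r ≠ 0) (x y : k), g = tM x * (nM r hr * (mM c hc * tM y))) := by
  have hd := det_eq g
  by_cases h : g.1 1 0 = 0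
  · left
    rw [h, mul_zero, sub_zero] at hd
    have h0 : g.1 0 0 ≠ 0 := left_ne_zero_of_mul_eq_one hd
    have h1 : g.1 1 1 = (g.1 0 0)⁻¹ := eq_inv_of_mul_eq_one_right hd
    refine ⟨g.1 0 0, h0, g.1 0 1 / g.1 0 0, ?_⟩
    apply ext'
    · rw [mul_apply', nM_00, nM_01, tM_00, tM_10]; ring
    · rw [mul_apply', nM_00, nM_01, tM_01, tM_11]; field_simp; ring
    · rw [mul_apply', nM_10, nM_11, tM_00, tM_10, h]; ring
    · rw [mul_apply', nM_10, nM_11, tM_01, tM_11, h1]; ring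
  · right
    have hr : 1 / (c * g.1 1 0) ≠ 0 := one_div_ne_zero (mul_ne_zero hc h)
    refine ⟨_, hr, g.1 0 0 / g.1 1 0, g.1 1 1 / g.1 1 0, ?_⟩
    apply ext'
    · simp only [mul_apply', tM_00, tM_01, tM_10, nM_00, nM_01, nM_10, nM_11, mM_00, mM_01,
        mM_10, mM_11]
      field_simp
      ring
    · simp only [mul_apply', tM_00, tM_01, tM_11, nM_00, nM_01, nM_10, nM_11, mM_00, mM_01,
        mM_10, mM_11]
      field_simp
      linear_combination (-(c * g.1 1 0)) * hd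
    · simp only [mul_apply', tM_00, tM_10, tM_11, nM_00, nM_01, nM_10, nM_11, mM_00, mM_01,
        mM_10, mM_11]
      field_simp
      ring
    · simp only [mul_apply', tM_01, tM_10, tM_11, nM_00, nM_01, nM_10, nM_11, mM_00, mM_01,
        mM_10, mM_11]
      field_simp
      ring

theorem Rel.Phi_mul (R : Rel T ν m c) (x g : SpecialLinearGroup (Fin 2) k) :
    Phi T ν m c (x * g) = Phi T ν m c x * Phi T ν m c g := by
  rcases decomp R.c_ne x with ⟨r, hr, a, rfl⟩ | ⟨r, hr, a, b, rfl⟩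
  · rw [mul_assoc, R.Phi_nM_mul, R.Phi_tM_mul, R.Phi_nM_mul, R.Phi_tM, mul_assoc]
  · simp only [mul_assoc, R.Phi_nM_mul, R.Phi_tM_mul, R.Phi_mM_mul, R.Phi_tM]

/-- the homomorphism -/
noncomputable def Rel.hom (R : Rel T ν m c) : SpecialLinearGroup (Fin 2) k →* G :=
  MonoidHom.mk' (Phi T ν m c) R.Phi_mul

theorem Rel.hom_apply (R : Rel T ν m c) (g : SpecialLinearGroup (Fin 2) k) :
    R.hom g = Phi T ν m c g := rfl

theorem Rel.hom_tM (R : Rel T ν m c) (s : k) : R.hom (tM s) = T s := R.Phi_tM s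

theorem Rel.hom_nM (R : Rel T ν m c) (r : k) (hr : r ≠ 0) : R.hom (nM r hr) = ν r := R.Phi_nM r hr

theorem Rel.hom_mM (R : Rel T ν m c) : R.hom (mM c R.c_ne) = m := R.Phi_mM

/-- conjugation by `diag(x, 1)` -/
def dconj (x : k) (hx : x ≠ 0) (g : SpecialLinearGroup (Fin 2) k) : SpecialLinearGroup (Fin 2) k :=
  mk (g.1 0 0) (x * g.1 0 1) (x⁻¹ * g.1 1 0) (g.1 1 1) (by
    have := det_eq g
    field_simp
    linear_combination this)

theorem Rel.dconj_hom (R : Rel T ν m c) {h : G} {x : k} (hx : x ≠ 0)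
    (hT : ∀ s, h * T s * h⁻¹ = T (x * s)) (hν : ∀ r, r ≠ 0 → h * ν r * h⁻¹ = ν r)
    (hm : h * m * h⁻¹ = ν x * m) (g : SpecialLinearGroup (Fin 2) k) :
    h * R.hom g * h⁻¹ = R.hom (dconj x hx g) := by
  rw [R.hom_apply, R.hom_apply]
  have hd := det_eq g
  by_cases h0 : g.1 1 0 = 0
  · have h0' : (dconj x hx g).1 1 0 = 0 := by
      show x⁻¹ * g.1 1 0 = 0
      rw [h0, mul_zero]
    rw [Phi_of_eq h0, Phi_of_eq h0']
    rw [h0, mul_zero, sub_zero] at hd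
    have h1 : g.1 0 0 ≠ 0 := left_ne_zero_of_mul_eq_one hd
    show _ = ν (g.1 0 0) * T (x * g.1 0 1 / g.1 0 0)
    rw [mul_div_assoc, ← hT]
    nth_rewrite 2 [← hν _ h1]
    group
  · have h0' : (dconj x hx g).1 1 0 ≠ 0 := mul_ne_zero (inv_ne_zero hx) h0
    rw [Phi_of_ne h0, Phi_of_ne h0']
    show _ = T (g.1 0 0 / (x⁻¹ * g.1 1 0)) * ν (1 / (c * (x⁻¹ * g.1 1 0))) * m *
      T (g.1 1 1 / (x⁻¹ * g.1 1 0))
    have hr : 1 / (c * g.1 1 0) ≠ 0 := one_div_ne_zero (mul_ne_zero R.c_ne h0)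
    have e1 : g.1 0 0 / (x⁻¹ * g.1 1 0) = x * (g.1 0 0 / g.1 1 0) := by field_simp
    have e2 : 1 / (c * (x⁻¹ * g.1 1 0)) = 1 / (c * g.1 1 0) * x := by field_simp
    have e3 : g.1 1 1 / (x⁻¹ * g.1 1 0) = x * (g.1 1 1 / g.1 1 0) := by field_simp
    rw [e1, e2, e3, ← hT, ← hT, R.ν_mul _ _ hr hx]
    have e4 : ∀ A B C : G, A * (B * ν x) * m * C = A * B * (ν x * m) * C := fun A B C => by group
    rw [e4, ← hm]
    nth_rewrite 2 [← hν _ hr]
    group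

end Cfsg.Agent.ONan.SL2Hom
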